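/- helper555: non-simple half of S3923 (homogeneous quasisimple groups), basics -/
import Mathlib
import Cfsg.Agent.H486.HgIface
import Cfsg.Agent.Lib.ComponentSolvable
import Cfsg.Agent.PermutationGroups.ZassEnd

set_option autoImplicit false
set_option linter.unusedSectionVars false

namespace Cfsg.Agent.H555.HgQ

open Subgroup Cfsg.Agent.H486.Hg

universe u v

theorem exists_zpowers_equiv {G H : Type*} [Group G] [Group H] {x : G} {y : H} (h : orderOf x = orderOf y) :
    ∃ e : zpowers x ≃* zpowers y, (e ⟨x, mem_zpowers x⟩ : H) = y := by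
  have hx : ∀ z : zpowers x, z ∈ zpowers (⟨x, mem_zpowers x⟩ : zpowers x) := by
    rintro ⟨z, k, rfl⟩
    exact ⟨k, Subtype.ext rfl⟩
  have hy : ∀ z : zpowers y, z ∈ zpowers (⟨y, mem_zpowers y⟩ : zpowers y) := by
    rintro ⟨z, k, rfl⟩
    exact ⟨k, Subtype.ext rfl⟩
  refine ⟨mulEquivOfOrderOfEq hx hy (by rw [Subgroup.orderOf_mk, Subgroup.orderOf_mk, h]), ?_⟩
  rw [mulEquivOfOrderOfEq_apply_gen]

/-- in a homogeneous group elements of the same order are conjugate under the automorphism group -/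
theorem exists_aut_of_orderOf {G : Type*} [Group G] (hH : Homog G) {x y : G} (h : orderOf x = orderOf y) :
    ∃ φ : G ≃* G, φ x = y := by
  obtain ⟨e, he⟩ := exists_zpowers_equiv h
  obtain ⟨φ, hφ⟩ := hH _ _ e
  exact ⟨φ, (hφ ⟨x, mem_zpowers x⟩).trans he⟩

variable {G : Type u} [Group G] [Finite G]

theorem perf (hq : Cfsg.IsQuasisimple G) : commutator G = ⊤ := hq.1.commutator_eq_top

/-- no central elements of odd prime order -/
theorem no_odd (hL : Loc G) (hq : Cfsg.IsQuasisimple G) {p : ℕ} (hp : p.Prime) (hp2 : p ≠ 2) {x : G}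
    (hx : x ∈ center G) (hxo : orderOf x = p) : False := by
  have hpF : Fact p.Prime := ⟨hp⟩
  obtain ⟨P⟩ : Nonempty (Sylow p G) := inferInstance
  have hc : ∀ x ∈ (P : Subgroup G), ∀ y ∈ (P : Subgroup G), x * y = y * x := by
    rcases hL.odd p hp2 P with h | ⟨_, h, _⟩
    · intro x hx y hy
      have := h.commGroup
      have h1 : (⟨x, hx⟩ : (P : Subgroup G)) * ⟨y, hy⟩ = ⟨y, hy⟩ * ⟨x, hx⟩ := IsCyclic.commGroup.mul_comm _ _
      exact congrArg Subtype.val h1
    · exact h
  have hPc : IsMulCommutative (P : Subgroup G) := ⟨⟨fun a b => Subtype.ext (hc _ a.2 _ b.2)⟩⟩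
  exact Cfsg.Agent.PermutationGroups.ZassEnd.no_central (perf hq) P x hx hxo

/-- a central involution -/
theorem exists_central (hL : Loc G) (hq : Cfsg.IsQuasisimple G) (hns : ¬ IsSimpleGroup G) :
    ∃ z ∈ center G, orderOf z = 2 := by
  have hZ : center G ≠ ⊥ := by
    intro h
    apply hns
    have := hq.2
    have e : G ⧸ center G ≃* G := (QuotientGroup.quotientMulEquivOfEq h).trans QuotientGroup.quotientBot
    have hnt : Nontrivial G := e.toEquiv.symm.nontrivial
    exact IsSimpleGroup.isSimpleGroup_of_surjective e.toMonoidHom e.surjective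
  obtain ⟨⟨z, hz⟩, hz1⟩ := Subgroup.ne_bot_iff_exists_ne_one.mp hZ
  have hz1' : z ≠ 1 := fun h => hz1 (Subtype.ext h)
  obtain ⟨p, hp, hpd⟩ := Nat.exists_prime_and_dvd (fun h => hz1' (orderOf_eq_one_iff.mp h))
  have h1 : orderOf (z ^ (orderOf z / p)) = p := orderOf_pow_orderOf_div (orderOf_pos z).ne' hpd
  have h2 : z ^ (orderOf z / p) ∈ center G := pow_mem hz _
  by_cases hp2 : p = 2
  · exact ⟨_, h2, by rw [h1, hp2]⟩
  · exact (no_odd hL hq hp hp2 h2 h1).elim

/-- all involutions are central -/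
theorem inv_central (hL : Loc G) (hH : Homog G) (hq : Cfsg.IsQuasisimple G) (hns : ¬ IsSimpleGroup G) {t : G}
    (ht : orderOf t = 2) : t ∈ center G := by
  obtain ⟨z, hz, hz2⟩ := exists_central hL hq hns
  obtain ⟨φ, hφ⟩ := exists_aut_of_orderOf hH (hz2.trans ht.symm)
  rw [← hφ, mem_center_iff]
  intro g
  have h1 := mem_center_iff.mp hz (φ.symm g)
  have h2 := congrArg φ h1
  rw [map_mul, map_mul, MulEquiv.apply_symm_apply] at h2
  exact h2

/-- the subgroup of the involutions -/
def Om (hinv : ∀ t : G, orderOf t = 2 → t ∈ center G) : Subgroup G where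
  carrier := {x | x * x = 1}
  mul_mem' := by
    intro a b ha hb
    have ha' : a * a = 1 := ha
    have hb' : b * b = 1 := hb
    have hac : a ∈ center G := by
      by_cases h : a = 1
      · rw [h]; exact one_mem _
      · exact hinv a (orderOf_eq_prime (by rw [pow_two, ha']) h)
    change a * b * (a * b) = 1
    have h1 := mem_center_iff.mp hac b
    calc a * b * (a * b) = a * (b * a) * b := by group
      _ = a * (a * b) * b := by rw [h1]
      _ = (a * a) * (b * b) := by group
      _ = 1 := by rw [ha', hb', one_mul]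
  one_mem' := one_mul 1
  inv_mem' := by
    intro a ha
    have ha' : a * a = 1 := ha
    change a⁻¹ * a⁻¹ = 1
    rw [← mul_inv_rev, ha', inv_one]

theorem mem_Om {hinv : ∀ t : G, orderOf t = 2 → t ∈ center G} {x : G} : x ∈ Om hinv ↔ x * x = 1 := Iff.rfl

theorem Om_le (hinv : ∀ t : G, orderOf t = 2 → t ∈ center G) : Om hinv ≤ center G := by
  intro a ha
  by_cases h : a = 1
  · rw [h]; exact one_mem _
  · exact hinv a (orderOf_eq_prime (by rw [pow_two]; exact ha) h)

end Cfsg.Agent.H555.HgQ
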