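/- helper555: non-simple half of S3923, three involutions -/
import Cfsg.Agent.H555.HgQ.Three
import Cfsg.Agent.S1237
import Cfsg.Agent.S1248
import Cfsg.Agent.S2921
import Cfsg.Agent.Walter.PairsRot

set_option autoImplicit false
set_option linter.unusedSectionVars false

namespace Cfsg.Agent.H555.HgQ

open Subgroup Cfsg.Agent.H486.Hg Cfsg.Agent.Schreier.Basic
open scoped Pointwise

universe u v
variable {G : Type u} [Group G] [Finite G]

/-- the matrix of order three -/
def M3 : Matrix.SpecialLinearGroup (Fin 2) (ZMod 2) := ⟨!![0, 1; 1, 1], by decide⟩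

theorem M3_trans : ∀ v w : Fin 2 → ZMod 2, v ≠ 0 → w ≠ 0 → ∃ k : ℕ, k < 3 ∧
    ((M3 ^ k : Matrix.SpecialLinearGroup (Fin 2) (ZMod 2)).1.mulVec v) = w := by
  have h0 : (M3 ^ 0 : Matrix.SpecialLinearGroup (Fin 2) (ZMod 2)).1 = !![1, 0; 0, 1] := by decide
  have h1 : (M3 ^ 1 : Matrix.SpecialLinearGroup (Fin 2) (ZMod 2)).1 = !![0, 1; 1, 1] := by decide
  have h2 : (M3 ^ 2 : Matrix.SpecialLinearGroup (Fin 2) (ZMod 2)).1 = !![1, 1; 1, 0] := by decide
  have key : ∀ v w : Fin 2 → ZMod 2, v ≠ 0 → w ≠ 0 →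
      (!![(1 : ZMod 2), 0; 0, 1].mulVec v = w) ∨ (!![(0 : ZMod 2), 1; 1, 1].mulVec v = w) ∨
        (!![(1 : ZMod 2), 1; 1, 0].mulVec v = w) := by decide
  intro v w hv hw
  rcases key v w hv hw with h | h | h
  · exact ⟨0, by omega, by rw [h0]; exact h⟩
  · exact ⟨1, by omega, by rw [h1]; exact h⟩
  · exact ⟨2, by omega, by rw [h2]; exact h⟩

/-- an automorphism transitive on the involutions, by powers -/
theorem exists_rot (hH : Homog G) (hinv : ∀ t : G, orderOf t = 2 → t ∈ center G) (hc : Nat.card (Om hinv) = 4) :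
    ∃ φ : MulAut G, ∀ s t : G, orderOf s = 2 → orderOf t = 2 → ∃ k : ℕ, (φ ^ k) s = t := by
  have hp2 : Fact (Nat.Prime 2) := ⟨Nat.prime_two⟩
  obtain ⟨c⟩ := exists_equiv (p := 2) (k := 2) (A := Om hinv) Om_comm Om_sq (by rw [hc]; norm_num)
  obtain ⟨φ, hφ⟩ := hH.exists_aut (slAut c M3)
  have hpow : ∀ (k : ℕ) (x : Om hinv), (φ ^ k) (x : G) = (slAut c (M3 ^ k) x : G) := by
    intro k
    induction k with
    | zero => intro x; rw [pow_zero, pow_zero, map_one]; rfl
    | succ n ih =>
      intro x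
      rw [pow_succ, MulAut.mul_apply, hφ, ih, pow_succ, map_mul, MulAut.mul_apply]
  have hmem : ∀ s : G, orderOf s = 2 → s ∈ Om hinv := by
    intro s hs
    rw [mem_Om, ← pow_two, ← hs, pow_orderOf_eq_one]
  have hne : ∀ (s : G) (hs : orderOf s = 2), Multiplicative.toAdd (c ⟨s, hmem s hs⟩) ≠ 0 := by
    intro s hs h
    have h1 : c ⟨s, hmem s hs⟩ = 1 := Multiplicative.toAdd.injective h
    have h2 := (MulEquiv.map_eq_one_iff c).mp h1
    have h3 : s = 1 := congrArg Subtype.val h2
    rw [h3, orderOf_one] at hs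
    omega
  refine ⟨φ, fun s t hs ht => ?_⟩
  obtain ⟨k, -, hk⟩ := M3_trans _ _ (hne s hs) (hne t ht)
  refine ⟨k, ?_⟩
  rw [hpow k ⟨s, hmem s hs⟩, slAut_apply, hk]
  rw [ofAdd_toAdd, MulEquiv.symm_apply_apply]

/-- the automorphism may be taken to fix a given Sylow subgroup -/
theorem exists_rot' (hH : Homog G) (hinv : ∀ t : G, orderOf t = 2 → t ∈ center G) (hc : Nat.card (Om hinv) = 4)
    (T : Sylow 2 G) :
    ∃ φ : MulAut G, (∀ s t : G, orderOf s = 2 → orderOf t = 2 → ∃ k : ℕ, (φ ^ k) s = t) ∧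
      ∀ x, x ∈ (T : Subgroup G) ↔ φ x ∈ (T : Subgroup G) := by
  have hp2 : Fact (Nat.Prime 2) := ⟨Nat.prime_two⟩
  obtain ⟨φ, hφ⟩ := exists_rot hH hinv hc
  have h1 : IsPGroup 2 ((T : Subgroup G).map φ.toMonoidHom) := T.2.map _
  have h2 : Nat.card ((T : Subgroup G).map φ.toMonoidHom) = Nat.card (T : Subgroup G) :=
    Subgroup.card_map_of_injective φ.injective
  let T' : Sylow 2 G := Sylow.ofCard ((T : Subgroup G).map φ.toMonoidHom) (by
    rw [h2]; exact Sylow.card_eq_multiplicity T)
  obtain ⟨g, hg⟩ := MulAction.exists_smul_eq G T' T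
  have hg' : ∀ x, x ∈ (T : Subgroup G) ↔ g⁻¹ * x * g ∈ (T : Subgroup G).map φ.toMonoidHom := by
    intro x
    have hg2 : MulAut.conj g • (T' : Subgroup G) = (T : Subgroup G) := congrArg Sylow.toSubgroup hg
    have hg3 : x ∈ (T : Subgroup G) ↔ x ∈ MulAut.conj g • (T' : Subgroup G) := by rw [hg2]
    rw [hg3, Subgroup.mem_pointwise_smul_iff_inv_smul_mem, MulAut.smul_def,
      ← map_inv, MulAut.conj_apply, inv_inv]
    rfl
  have hcen : ∀ (k : ℕ) (s : G), orderOf s = 2 → ((MulAut.conj g * φ) ^ k) s = (φ ^ k) s := by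
    intro k
    induction k with
    | zero => intro s _; rfl
    | succ n ih =>
      intro s hs
      have hs2 : orderOf ((MulAut.conj g * φ) s) = 2 := by
        rw [← hs]; exact orderOf_injective (MulAut.conj g * φ).toMonoidHom (MulEquiv.injective _) s
      have hs3 : orderOf (φ s) = 2 := by
        rw [← hs]; exact orderOf_injective φ.toMonoidHom φ.injective s
      have h3 : (MulAut.conj g * φ) s = φ s := by
        rw [MulAut.mul_apply, MulAut.conj_apply]
        have h4 := mem_center_iff.mp (hinv _ hs3) g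
        rw [h4, mul_inv_cancel_right]
      rw [pow_succ, pow_succ, MulAut.mul_apply, ih _ hs2, h3, MulAut.mul_apply]
  refine ⟨MulAut.conj g * φ, fun s t hs ht => ?_, fun x => ?_⟩
  · obtain ⟨k, hk⟩ := hφ s t hs ht
    exact ⟨k, by rw [hcen k s hs, hk]⟩
  · rw [hg' ((MulAut.conj g * φ) x), MulAut.mul_apply, MulAut.conj_apply]
    have h5 : g⁻¹ * (g * φ x * g⁻¹) * g = φ x := by group
    rw [h5]
    constructor
    · intro hx; exact ⟨x, hx, rfl⟩
    · rintro ⟨y, hy, hxy⟩
      have h6 : y = x := φ.injective hxy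
      rw [← h6]; exact hy

/-- the structure of the Sylow 2-subgroup in the nonabelian case -/
theorem u34 {T : Type u} [Group T] [Finite T] {F : Type} [Field F] [Fintype F] (hF : Fintype.card F = 16)
    (P : Sylow 2 (Cfsg.PSU 3 F 4)) (e : T ≃* (P : Subgroup (Cfsg.PSU 3 F 4))) :
    Nat.card T = 64 ∧ (∀ x ∈ center T, x * x = 1) ∧ (∀ x y : T, x * y * x⁻¹ * y⁻¹ ∈ center T) ∧
      ∀ x : T, x * x ∈ center T := by
  obtain ⟨h1, h2, h3, h4, h5, h6⟩ := Cfsg.Agent.S1248.result hF P
  have hcen : ∀ x : T, x ∈ center T ↔ e x ∈ center (P : Subgroup (Cfsg.PSU 3 F 4)) := by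
    intro x
    rw [mem_center_iff, mem_center_iff]
    constructor
    · intro h g
      have h7 := congrArg e (h (e.symm g))
      rwa [map_mul, map_mul, MulEquiv.apply_symm_apply] at h7
    · intro h g
      apply e.injective
      rw [map_mul, map_mul, h]
  refine ⟨?_, ?_, ?_, ?_⟩
  · rw [← h1]; exact Nat.card_congr e.toEquiv
  · intro x hx
    have h7 := (hcen x).mp hx
    have h8 : (⟨e x, h7⟩ : center (P : Subgroup (Cfsg.PSU 3 F 4))) * ⟨e x, h7⟩ = 1 := by
      have h9 := Monoid.pow_exponent_eq_one (⟨e x, h7⟩ : center (P : Subgroup (Cfsg.PSU 3 F 4)))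
      rw [h2.exponent_two, pow_two] at h9
      exact h9
    apply e.injective
    rw [map_mul, map_one]
    exact congrArg Subtype.val h8
  · intro x y
    rw [hcen, h4, map_mul, map_mul, map_mul, map_inv, map_inv, ← commutatorElement_def, _root_.commutator_def]
    exact commutator_mem_commutator (mem_top _) (mem_top _)
  · intro x
    rw [hcen, map_mul, ← pow_two, ← QuotientGroup.eq_one_iff, QuotientGroup.mk_pow]
    exact h6 _

/-- three involutions are impossible -/
theorem rank_two (hH : Homog G) (hL : Loc G) (hq : Cfsg.IsQuasisimple G) (hns : ¬ IsSimpleGroup G)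
    (hinv : ∀ t : G, orderOf t = 2 → t ∈ center G) (hc : Nat.card (Om hinv) = 4) : False := by
  have hp2 : Fact (Nat.Prime 2) := ⟨Nat.prime_two⟩
  obtain ⟨T⟩ : Nonempty (Sylow 2 G) := inferInstance
  obtain ⟨φ, hφ, hφT⟩ := exists_rot' hH hinv hc T
  -- involutions are in `T`
  have hZT : ∀ x : G, x ∈ center G → x ∈ (T : Subgroup G) := by
    intro x hx
    have hpg : IsPGroup 2 (center G) := by
      rw [IsPGroup.iff_card]
      have hn0 : Nat.card (center G) ≠ 0 := Nat.card_pos.ne'
      refine ⟨_, Nat.eq_prime_pow_of_unique_prime_dvd hn0 (fun {p} hp hpd => ?_)⟩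
      have hpF : Fact p.Prime := ⟨hp⟩
      obtain ⟨x, hx⟩ := exists_prime_orderOf_dvd_card' p hpd
      by_contra hp2
      exact no_odd hL hq hp hp2 x.2 (by rw [Subgroup.orderOf_coe, hx])
    obtain ⟨Q, hQ⟩ := hpg.exists_le_sylow
    obtain ⟨g, hg⟩ := MulAction.exists_smul_eq G Q T
    have hg2 : MulAut.conj g • (Q : Subgroup G) = (T : Subgroup G) := congrArg Sylow.toSubgroup hg
    rw [← hg2, Subgroup.mem_pointwise_smul_iff_inv_smul_mem, MulAut.smul_def, ← map_inv, MulAut.conj_apply, inv_inv]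
    have h1 := mem_center_iff.mp hx g⁻¹
    rw [h1, inv_mul_cancel_right]
    exact hQ hx
  have hVT : ∀ x : G, x ∈ Om hinv → x ∈ (T : Subgroup G) := fun x hx => hZT x (Om_le hinv hx)
  -- the automorphism of `T`
  let ψ : MulAut (T : Subgroup G) :=
    { toFun := fun x => ⟨φ x, (hφT x).mp x.2⟩
      invFun := fun x => ⟨φ.symm x, by
        rw [hφT, MulEquiv.apply_symm_apply]; exact x.2⟩
      left_inv := fun x => Subtype.ext (φ.symm_apply_apply _)
      right_inv := fun x => Subtype.ext (φ.apply_symm_apply _)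
      map_mul' := fun x y => Subtype.ext (map_mul φ _ _) }
  have hψ : ∀ (k : ℕ) (x : (T : Subgroup G)), (((ψ ^ k) x : (T : Subgroup G)) : G) = (φ ^ k) (x : G) := by
    intro k
    induction k with
    | zero => intro x; rfl
    | succ n ih =>
      intro x
      rw [pow_succ, pow_succ, MulAut.mul_apply, ih, MulAut.mul_apply]
      rfl
  have htr : ∀ s t : (T : Subgroup G), orderOf s = 2 → orderOf t = 2 → ∃ k : ℕ, (ψ ^ k) s = t := by
    intro s t hs ht
    obtain ⟨k, hk⟩ := hφ s t (by rw [Subgroup.orderOf_coe, hs]) (by rw [Subgroup.orderOf_coe, ht])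
    exact ⟨k, Subtype.ext (by rw [hψ, hk])⟩
  have hr2 : Cfsg.PRankLE 2 2 (T : Subgroup G) := by
    intro A _ hA
    have h1 : A.map (T : Subgroup G).subtype ≤ Om hinv := by
      rintro _ ⟨a, ha, rfl⟩
      rw [mem_Om]
      have h2 := hA a ha
      rw [pow_two] at h2
      exact congrArg Subtype.val h2
    have h3 := Subgroup.card_le_of_le h1
    rw [Subgroup.card_map_of_injective (Subgroup.subtype_injective _), hc] at h3
    exact h3
  have hr1 : ¬ Cfsg.PRankLE 2 1 (T : Subgroup G) := by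
    intro h
    have h1 : IsMulCommutative ((Om hinv).subgroupOf (T : Subgroup G)) := by
      refine ⟨⟨fun a b => Subtype.ext (Subtype.ext ?_)⟩⟩
      exact mem_center_iff.mp (Om_le hinv b.2) _
    have h2 := h ((Om hinv).subgroupOf (T : Subgroup G)) h1 (by
      intro a ha
      apply Subtype.ext
      have h3 : (a : G) * a = 1 := ha
      rw [Subgroup.coe_pow, pow_two, h3]; rfl)
    have h4 : Nat.card ((Om hinv).subgroupOf (T : Subgroup G)) = Nat.card (Om hinv) :=
      Nat.card_congr (Subgroup.subgroupOfEquivOfLe (fun x hx => hVT x hx)).toEquiv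
    rw [h4, hc] at h2
    norm_num at h2
  -- the field with 16 elements
  let F := GaloisField 2 4
  have i2 : Fintype F := Fintype.ofFinite F
  have hF : Fintype.card F = 16 := by
    rw [← Nat.card_eq_fintype_card, GaloisField.card 2 4 (by norm_num)]; norm_num
  obtain ⟨P⟩ : Nonempty (Sylow 2 (Cfsg.PSU 3 F 4)) := inferInstance
  obtain ⟨z, hz, hz2⟩ := exists_central hL hq hns
  rcases Cfsg.Agent.S1237.result T.2 hr2 hr1 ψ htr hF P with ⟨n, -, ⟨e⟩⟩ | ⟨⟨e⟩⟩
  · -- abelian
    have hcm : IsMulCommutative (T : Subgroup G) := by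
      refine ⟨⟨fun a b => ?_⟩⟩
      apply e.injective
      rw [map_mul, map_mul, mul_comm]
    exact Cfsg.Agent.PermutationGroups.ZassEnd.no_central (perf hq) T z hz hz2
  · obtain ⟨u1, u2, u3, u4⟩ := u34 hF P e
    have hcV : ∀ x : (T : Subgroup G), x ∈ center (T : Subgroup G) → (x : G) ∈ Om hinv := by
      intro x hx
      exact congrArg Subtype.val (u2 x hx)
    have hZV : ∀ x : G, x ∈ center G → x ∈ Om hinv := by
      intro x hx
      refine hcV ⟨x, hZT x hx⟩ ?_
      rw [mem_center_iff]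
      intro g
      exact Subtype.ext (mem_center_iff.mp hx g)
    have hsimple : IsSimpleGroup (G ⧸ center G) := hq.2
    have hperf := perf hq
    have hLna : ∃ a b : G ⧸ center G, a * b ≠ b * a := by
      by_contra hno
      push Not at hno
      have h1 : _root_.commutator G ≤ center G := by
        rw [_root_.commutator_def, Subgroup.commutator_le]
        intro a _ b _
        rw [← QuotientGroup.eq_one_iff]
        have h2 := hno (a : G ⧸ center G) b
        rw [commutatorElement_def]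
        change (a : G ⧸ center G) * b * (a : G ⧸ center G)⁻¹ * (b : G ⧸ center G)⁻¹ = 1
        rw [h2, mul_inv_cancel_right, mul_inv_cancel]
      rw [hperf] at h1
      have h3 : (⊤ : Subgroup (G ⧸ center G)) = ⊥ := by
        rw [eq_bot_iff]
        intro x _
        obtain ⟨x, rfl⟩ := QuotientGroup.mk_surjective x
        rw [Subgroup.mem_bot, QuotientGroup.eq_one_iff]
        exact h1 (mem_top _)
      exact bot_ne_top h3.symm
    let S : Sylow 2 (G ⧸ center G) := T.mapSurjective (QuotientGroup.mk'_surjective (center G))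
    have hSm : ∀ x : G ⧸ center G, x ∈ (S : Subgroup (G ⧸ center G)) ↔ ∃ y ∈ (T : Subgroup G), (y : G ⧸ center G) = x := by
      intro x; rfl
    have hSc : ∀ a ∈ (S : Subgroup (G ⧸ center G)), ∀ b ∈ (S : Subgroup (G ⧸ center G)), a * b = b * a := by
      intro a ha b hb
      obtain ⟨a, ha', rfl⟩ := (hSm a).mp ha
      obtain ⟨b, hb', rfl⟩ := (hSm b).mp hb
      have h1 := Om_le hinv (hcV _ (u3 ⟨a, ha'⟩ ⟨b, hb'⟩))
      rw [← QuotientGroup.eq_one_iff] at h1
      change (a : G ⧸ center G) * b * (a : G ⧸ center G)⁻¹ * (b : G ⧸ center G)⁻¹ = 1 at h1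
      rw [mul_inv_eq_one, mul_inv_eq_iff_eq_mul] at h1
      exact h1
    have hna : ¬ IsMulCommutative (G ⧸ center G) := by
      rintro ⟨⟨h⟩⟩
      obtain ⟨a, b, hab⟩ := hLna
      exact hab (h a b)
    have hW := Cfsg.Agent.S2921.wType hsimple hna S hSc
    -- all elements outside `V` have the same square
    have hsq : ∀ x ∈ (T : Subgroup G), x ∉ Om hinv → ∀ y ∈ (T : Subgroup G), y ∉ Om hinv → x * x = y * y := by
      intro x hx hxV y hy hyV
      have hx1 : (x : G ⧸ center G) ≠ 1 := by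
        rw [Ne, QuotientGroup.eq_one_iff]; exact fun h => hxV (hZV x h)
      have hy1 : (y : G ⧸ center G) ≠ 1 := by
        rw [Ne, QuotientGroup.eq_one_iff]; exact fun h => hyV (hZV y h)
      obtain ⟨n, -, hn⟩ := Cfsg.Agent.Walter.PairsRot.exists_normalizer_conj hW hLna S _
        ((hSm _).mpr ⟨x, hx, rfl⟩) hx1 _ ((hSm _).mpr ⟨y, hy, rfl⟩) hy1
      obtain ⟨n, rfl⟩ := QuotientGroup.mk_surjective n
      have h1 : y⁻¹ * (n * x * n⁻¹) ∈ center G := by
        rw [← QuotientGroup.eq_one_iff]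
        change (y : G ⧸ center G)⁻¹ * ((n : G ⧸ center G) * x * (n : G ⧸ center G)⁻¹) = 1
        rw [hn, inv_mul_cancel]
      set v := y⁻¹ * (n * x * n⁻¹) with hv
      have h2 : n * x * n⁻¹ = y * v := by rw [hv]; group
      have h3 : v * v = 1 := hZV v h1
      have hxx : x * x ∈ center G := Om_le hinv (hcV _ (u4 ⟨x, hx⟩))
      have h4 := mem_center_iff.mp hxx n
      have h5 := mem_center_iff.mp h1 y
      calc x * x = n * (x * x) * n⁻¹ := by rw [h4, mul_inv_cancel_right]
        _ = (n * x * n⁻¹) * (n * x * n⁻¹) := by group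
        _ = y * (v * y) * v := by rw [h2]; group
        _ = (y * y) * (v * v) := by rw [← h5]; group
        _ = y * y := by rw [h3, mul_one]
    -- an element outside `V`
    have hex : ∃ x ∈ (T : Subgroup G), x ∉ Om hinv := by
      by_contra hno
      push Not at hno
      have h1 := Subgroup.card_le_of_le (H := (T : Subgroup G)) (K := Om hinv) hno
      rw [u1, hc] at h1
      norm_num at h1
    obtain ⟨x, hxT, hxV⟩ := hex
    have hxx : x * x ∈ Om hinv := hcV _ (u4 ⟨x, hxT⟩)
    have hxx1 : x * x ≠ 1 := hxV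
    have hφV : ∀ y, y ∉ Om hinv → φ y ∉ Om hinv := by
      intro y hy h
      apply hy
      have h1 : φ y * φ y = 1 := h
      rw [← map_mul, MulEquiv.map_eq_one_iff] at h1
      exact h1
    have hfix : φ (x * x) = x * x := by
      rw [map_mul]
      exact hsq _ ((hφT x).mp hxT) (hφV x hxV) _ hxT hxV
    have hfixk : ∀ k : ℕ, (φ ^ k) (x * x) = x * x := by
      intro k
      induction k with
      | zero => rfl
      | succ n ih => rw [pow_succ, MulAut.mul_apply, hfix, ih]
    have hord : ∀ w : G, w ∈ Om hinv → w ≠ 1 → orderOf w = 2 := fun w hw hw1 =>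
      orderOf_eq_prime (by rw [pow_two]; exact hw) hw1
    -- all involutions are equal
    have hall : ∀ w ∈ Om hinv, w = 1 ∨ w = x * x := by
      intro w hw
      by_cases hw1 : w = 1
      · exact Or.inl hw1
      · obtain ⟨k, hk⟩ := hφ (x * x) w (hord _ hxx hxx1) (hord w hw hw1)
        right
        rw [← hk, hfixk]
    have hcard : Nat.card (Om hinv) ≤ 2 := by
      have h1 : (Om hinv : Set G) ⊆ {1, x * x} := by
        intro w hw
        rcases hall w hw with h | h
        · exact Or.inl h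
        · exact Or.inr h
      have h2 := Set.ncard_le_ncard h1 (Set.toFinite _)
      rw [Set.ncard_pair hxx1.symm] at h2
      exact h2
    rw [hc] at hcard
    norm_num at hcard

end Cfsg.Agent.H555.HgQ
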