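/- helper555: non-simple half of S3923 (homogeneous quasisimple groups) -/
import Cfsg.Agent.H555.HgQ.One
import Cfsg.Agent.H555.HgQ.Two

set_option autoImplicit false
set_option linter.unusedSectionVars false

namespace Cfsg.Agent.H555.HgQ

open Subgroup Cfsg.Agent.H486.Hg Cfsg.Agent.Schreier.Basic

universe u

/-- **A homogeneous quasisimple group which is not simple is `SL₂(5)`.** (`Sch G` may be obtained from `Sch (G ⧸ center G)` with
`Cfsg.Agent.Schreier.CentExt.sch_of_quotient`.) -/
theorem nonsimple {G : Type u} [Group G] [Finite G] (hS : Sch G) (hH : Homog G) (hL : Loc G)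
    (hq : Cfsg.IsQuasisimple G) (hns : ¬ IsSimpleGroup G)
    (h2 : ∀ (F : Type) [Field F] [Fintype F], Odd (Fintype.card F) → 3 < Fintype.card F →
      Nonempty (G ≃* Matrix.SpecialLinearGroup (Fin 2) F) → Fintype.card F = 5) :
    ∃ (F : Type) (_ : Field F) (_ : Fintype F), Fintype.card F = 5 ∧
      Nonempty (G ≃* Matrix.SpecialLinearGroup (Fin 2) F) := by
  have hp2 : Fact (Nat.Prime 2) := ⟨Nat.prime_two⟩
  have hinv : ∀ t : G, orderOf t = 2 → t ∈ center G := fun t ht => inv_central hL hH hq hns ht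
  obtain ⟨z, hz, hz2⟩ := exists_central hL hq hns
  have hle : Nat.card (Om hinv) ≤ 8 := by
    apply hL.two (Om hinv)
    · intro x _ y hy
      exact mem_center_iff.mp (Om_le hinv hy) x
    · intro x hx
      rw [pow_two]; exact hx
  have hpg : IsPGroup 2 (Om hinv) := fun x => ⟨1, by rw [pow_one]; exact Om_sq x⟩
  obtain ⟨n, hn⟩ := IsPGroup.iff_card.mp hpg
  have hn0 : n ≠ 0 := by
    rintro rfl
    rw [pow_zero] at hn
    have h1 := Subgroup.card_eq_one.mp hn
    have h3 : z ∈ Om hinv := by rw [mem_Om, ← pow_two, ← hz2, pow_orderOf_eq_one]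
    rw [h1, Subgroup.mem_bot] at h3
    rw [h3, orderOf_one] at hz2
    omega
  have hn3 : n ≤ 3 := by
    by_contra h
    have h1 : 2 ^ 4 ≤ 2 ^ n := Nat.pow_le_pow_right (by norm_num) (by omega)
    omega
  have hcases : n = 1 ∨ n = 2 ∨ n = 3 := by omega
  rcases hcases with rfl | rfl | rfl
  · exact rank_one hH hL hq hns h2 hinv hn
  · exact (rank_two hH hL hq hns hinv hn).elim
  · exact (rank_three hS hH hinv hn).elim

end Cfsg.Agent.H555.HgQ
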